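import Cfsg.Agent.Lib.Cert.McLo.U0
import Cfsg.Agent.Lib.Cert.McLo.U1
import Cfsg.Agent.Lib.Cert.McLo.U2

set_option autoImplicit false
set_option maxRecDepth 100000

namespace Cfsg.Agent.Ct.McLo

open Cfsg.Agent.PC

open Cfsg.Agent.Fi Cfsg.Agent.Ct
theorem h3 : ∀ i < 22274, f3 i = 0 := by
  have h := zero_lt_zero f3
  have h := zero_lt_add (a := (nat_lit 0)) (n := (nat_lit 2000)) (b := (nat_lit 2000)) h d0 rfl
  have h := zero_lt_add (a := (nat_lit 2000)) (n := (nat_lit 2000)) (b := (nat_lit 4000)) h d2000 rfl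
  have h := zero_lt_add (a := (nat_lit 4000)) (n := (nat_lit 2000)) (b := (nat_lit 6000)) h d4000 rfl
  have h := zero_lt_add (a := (nat_lit 6000)) (n := (nat_lit 2000)) (b := (nat_lit 8000)) h d6000 rfl
  have h := zero_lt_add (a := (nat_lit 8000)) (n := (nat_lit 2000)) (b := (nat_lit 10000)) h d8000 rfl
  have h := zero_lt_add (a := (nat_lit 10000)) (n := (nat_lit 2000)) (b := (nat_lit 12000)) h d10000 rfl
  have h := zero_lt_add (a := (nat_lit 12000)) (n := (nat_lit 2000)) (b := (nat_lit 14000)) h d12000 rfl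
  have h := zero_lt_add (a := (nat_lit 14000)) (n := (nat_lit 2000)) (b := (nat_lit 16000)) h d14000 rfl
  have h := zero_lt_add (a := (nat_lit 16000)) (n := (nat_lit 2000)) (b := (nat_lit 18000)) h d16000 rfl
  have h := zero_lt_add (a := (nat_lit 18000)) (n := (nat_lit 2000)) (b := (nat_lit 20000)) h d18000 rfl
  have h := zero_lt_add (a := (nat_lit 20000)) (n := (nat_lit 2000)) (b := (nat_lit 22000)) h d20000 rfl
  have h := zero_lt_add (a := (nat_lit 22000)) (n := (nat_lit 274)) (b := (nat_lit 22274)) h d22000 rfl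
  exact h
theorem cl : Cl q sg 0 V 22275 := md.cl2 cs h3 (reps_tabs (McLb.md0).reps (by decide +kernel) h4) (M' := 8) (t := Ct) (by decide +kernel)
  (by rw [McL.card]; decide +kernel)
theorem k1 : ∀ i < 22275, u1 i = 0 := by
  have h := zero_lt_zero u1
  have h := zero_lt_add (a := (nat_lit 0)) (n := (nat_lit 2500)) (b := (nat_lit 2500)) h v1x0 rfl
  have h := zero_lt_add (a := (nat_lit 2500)) (n := (nat_lit 2500)) (b := (nat_lit 5000)) h v1x2500 rfl
  have h := zero_lt_add (a := (nat_lit 5000)) (n := (nat_lit 2500)) (b := (nat_lit 7500)) h v1x5000 rfl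
  have h := zero_lt_add (a := (nat_lit 7500)) (n := (nat_lit 2500)) (b := (nat_lit 10000)) h v1x7500 rfl
  have h := zero_lt_add (a := (nat_lit 10000)) (n := (nat_lit 2500)) (b := (nat_lit 12500)) h v1x10000 rfl
  have h := zero_lt_add (a := (nat_lit 12500)) (n := (nat_lit 2500)) (b := (nat_lit 15000)) h v1x12500 rfl
  have h := zero_lt_add (a := (nat_lit 15000)) (n := (nat_lit 2500)) (b := (nat_lit 17500)) h v1x15000 rfl
  have h := zero_lt_add (a := (nat_lit 17500)) (n := (nat_lit 2500)) (b := (nat_lit 20000)) h v1x17500 rfl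
  have h := zero_lt_add (a := (nat_lit 20000)) (n := (nat_lit 2275)) (b := (nat_lit 22275)) h v1x20000 rfl
  exact h
theorem o1 : CardLE (Fx q [nat_lit 11, nat_lit 0]) 36 := md.lvc cs cl au (aw := [nat_lit 8, nat_lit 9, nat_lit 8, nat_lit 10, nat_lit 7, nat_lit 9]) (y := 12) (by decide +kernel) k1 n1 o2
theorem k0 : ∀ i < 22275, u0 i = 0 := by
  have h := zero_lt_zero u0
  have h := zero_lt_add (a := (nat_lit 0)) (n := (nat_lit 2500)) (b := (nat_lit 2500)) h v0x0 rfl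
  have h := zero_lt_add (a := (nat_lit 2500)) (n := (nat_lit 2500)) (b := (nat_lit 5000)) h v0x2500 rfl
  have h := zero_lt_add (a := (nat_lit 5000)) (n := (nat_lit 2500)) (b := (nat_lit 7500)) h v0x5000 rfl
  have h := zero_lt_add (a := (nat_lit 7500)) (n := (nat_lit 2500)) (b := (nat_lit 10000)) h v0x7500 rfl
  have h := zero_lt_add (a := (nat_lit 10000)) (n := (nat_lit 2500)) (b := (nat_lit 12500)) h v0x10000 rfl
  have h := zero_lt_add (a := (nat_lit 12500)) (n := (nat_lit 2500)) (b := (nat_lit 15000)) h v0x12500 rfl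
  have h := zero_lt_add (a := (nat_lit 15000)) (n := (nat_lit 2500)) (b := (nat_lit 17500)) h v0x15000 rfl
  have h := zero_lt_add (a := (nat_lit 17500)) (n := (nat_lit 2500)) (b := (nat_lit 20000)) h v0x17500 rfl
  have h := zero_lt_add (a := (nat_lit 20000)) (n := (nat_lit 2275)) (b := (nat_lit 22275)) h v0x20000 rfl
  exact h
theorem o0 : CardLE (Fx q [nat_lit 0]) 80640 := md.lvc cs cl au (aw := [nat_lit 9, nat_lit 9, nat_lit 9]) (y := 11) (by decide +kernel) k0 n0 o1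
theorem aut : Nat.card (MulAut (Cfsg.Spor.McL)) ≤ 22275 * 80640 := cl.top au o0
def pi_t : TN := (TN.leaf (nat_lit 0x124a253160bdcb0b86429006e18074c6146224cea417bba896a276be0a0fa7fbd856cc1931da2e170249f60e65bf86c4a429d21a083f86de0ef14915b29559abdbaa1502a51aa81fa11e23c0018830f475b28d4c1791101b030f09d90a72e2f8ee255d9815a9844a0c8e4f6d9850eab6d019727258069acd4600f94a02443f1b0d7269986690431e0dab8459e5b82e813b8ae9c479c5aa134b9496ea358a6dced25b1d8430971880bc65240c52c9a5ea0a02e61cab11c162d42132101eb24b24e04a78f82682b3964ba201f414bf2d9bcd20b4881450228822a22f95a1a13e127eba2247b5a919bcc6038de005f69a98d6d0168e8e623213a4021c4ebccf50787250770f7a811be5561191780c1c151027e0cb0e0c34712a83ecd0a9c02f0446130066c07bb18a242c174cee421ab8ac2a08a906acf))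
noncomputable def pi (i : ℕ) : ℕ := get9 pi_t (nat_lit 9) (nat_lit 511) i
def pj_t : TN := (TN.leaf (nat_lit 0x124a253160bdcb0b86429006e18074c6146224cea417bba896a276be0a0fa7fbd856cc1931da2e170249f60e65bf86c4a429d21a083f86de0ef14915b29559abdbaa1502a51aa81fa11e23c0018830f475b28d4c1791101b030f09d90a72e2f8ee255d9815a9844a0c8e4f6d9850eab6d019727258069acd4600f94a02443f1b0d7269986690431e0dab8459e5b82e813b8ae9c479c5aa134b9496ea358a6dced25b1d8430971880bc65240c52c9a5ea0a02e61cab11c162d42132101eb24b24e04a78f82682b3964ba201f414bf2d9bcd20b4881450228822a22f95a1a13e127eba2247b5a919bcc6038de005f69a98d6d0168e8e623213a4021c4ebccf50787250770f7a811be5561191780c1c151027e0cb0e0c34712a83ecd0a9c02f0446130066c07bb18a242c174cee421ab8ac2a08a906acf))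
noncomputable def pj (i : ℕ) : ℕ := get9 pj_t (nat_lit 9) (nat_lit 511) i
def Wo_t : TL := (TL.node (TL.node (TL.leaf [nat_lit 0, nat_lit 2, nat_lit 1, nat_lit 0, nat_lit 1, nat_lit 0, nat_lit 1, nat_lit 2, nat_lit 1, nat_lit 0, nat_lit 2, nat_lit 1, nat_lit 0, nat_lit 1, nat_lit 2, nat_lit 0, nat_lit 1, nat_lit 0, nat_lit 2, nat_lit 1, nat_lit 0, nat_lit 1, nat_lit 2, nat_lit 1, nat_lit 0, nat_lit 2, nat_lit 0, nat_lit 1, nat_lit 2, nat_lit 0, nat_lit 1, nat_lit 2, nat_lit 0, nat_lit 2, nat_lit 1, nat_lit 0, nat_lit 1, nat_lit 0, nat_lit 2, nat_lit 0, nat_lit 2, nat_lit 1, nat_lit 0, nat_lit 1, nat_lit 2, nat_lit 0, nat_lit 2, nat_lit 1, nat_lit 0, nat_lit 1, nat_lit 2, nat_lit 0, nat_lit 2, nat_lit 0, nat_lit 1, nat_lit 0, nat_lit 1, nat_lit 2, nat_lit 0, nat_lit 1, nat_lit 0]) (TL.leaf [nat_lit 0, nat_lit 1, nat_lit 0, nat_lit 2, nat_lit 1, nat_lit 2, nat_lit 1, nat_lit 0, nat_lit 2, nat_lit 0, nat_lit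 1, nat_lit 2, nat_lit 1, nat_lit 2, nat_lit 0, nat_lit 1, nat_lit 0, nat_lit 2, nat_lit 0, nat_lit 2, nat_lit 1, nat_lit 2, nat_lit 1, nat_lit 2, nat_lit 0, nat_lit 1, nat_lit 2, nat_lit 0, nat_lit 1, nat_lit 2, nat_lit 1, nat_lit 0, nat_lit 2, nat_lit 1, nat_lit 2, nat_lit 0, nat_lit 2, nat_lit 0, nat_lit 2, nat_lit 0, nat_lit 1])) (TL.leaf [nat_lit 0, nat_lit 2, nat_lit 1, nat_lit 0, nat_lit 2, nat_lit 0, nat_lit 2, nat_lit 1, nat_lit 0, nat_lit 1, nat_lit 0, nat_lit 2, nat_lit 1, nat_lit 2, nat_lit 0, nat_lit 1, nat_lit 0, nat_lit 1, nat_lit 2, nat_lit 0, nat_lit 2, nat_lit 0, nat_lit 1, nat_lit 0, nat_lit 2, nat_lit 1, nat_lit 2, nat_lit 0, nat_lit 2, nat_lit 0, nat_lit 1, nat_lit 0, nat_lit 1, nat_lit 0, nat_lit 1, nat_lit 0, nat_lit 2, nat_lit 0, nat_lit 1, nat_lit 0, nat_lit 1, nat_lit 2, nat_lit 1, nat_lit 2, nat_lit 0, nat_lit 1, nat_lit 0, nat_lit 1, nat_lit 0, nat_lit 2, nat_lit 0, nat_lit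 1, nat_lit 2, nat_lit 0, nat_lit 2, nat_lit 0, nat_lit 1, nat_lit 0, nat_lit 1, nat_lit 2, nat_lit 1, nat_lit 0, nat_lit 1, nat_lit 0, nat_lit 2]))
noncomputable def Wo (i : ℕ) : List ℕ := TL.get Wo_t i
noncomputable def g1 : ℕ → ℕ := nzE McL.T (nat_lit 275) (nat_lit 3) pi pj Wo
theorem ge0 : Nat.beq (rng g1 (nat_lit 0) (nat_lit 275)) (nat_lit 0) = true := by decide +kernel
theorem l1 : ∀ i < 275, g1 i = 0 := by
  have h := zero_lt_zero g1
  have h := zero_lt_add (a := (nat_lit 0)) (n := (nat_lit 275)) (b := (nat_lit 275)) h ge0 rfl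
  exact h
noncomputable def g2 : ℕ → ℕ := ufE McL.T [[nat_lit 2, nat_lit 0, nat_lit 2, nat_lit 1, nat_lit 2, nat_lit 1, nat_lit 2, nat_lit 0, nat_lit 2, nat_lit 0, nat_lit 1, nat_lit 0, nat_lit 1, nat_lit 2, nat_lit 0, nat_lit 1, nat_lit 0, nat_lit 2, nat_lit 1, nat_lit 0, nat_lit 1, nat_lit 0, nat_lit 2, nat_lit 0, nat_lit 2, nat_lit 1, nat_lit 2, nat_lit 1, nat_lit 2, nat_lit 0, nat_lit 2, nat_lit 1, nat_lit 2, nat_lit 0, nat_lit 2, nat_lit 0, nat_lit 2, nat_lit 1, nat_lit 2, nat_lit 0, nat_lit 2, nat_lit 0, nat_lit 2, nat_lit 0, nat_lit 1, nat_lit 0, nat_lit 1, nat_lit 0, nat_lit 1, nat_lit 2, nat_lit 1, nat_lit 0, nat_lit 1, nat_lit 2, nat_lit 1, nat_lit 2, nat_lit 1, nat_lit 2, nat_lit 1, nat_lit 0, nat_lit 2, nat_lit 0, nat_lit 1, nat_lit 2, nat_lit 0, nat_lit 2, nat_lit 1, nat_lit 0, nat_lit 1, nat_lit 2, nat_lit 0, nat_lit 1, nat_lit 0, nat_lit 1, nat_lit 0, nat_lit 1, nat_lit 0, nat_lit 2], [nat_lit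 2, nat_lit 0, nat_lit 2, nat_lit 1, nat_lit 2, nat_lit 1, nat_lit 0, nat_lit 2, nat_lit 0, nat_lit 1, nat_lit 0, nat_lit 2, nat_lit 0, nat_lit 1, nat_lit 2, nat_lit 1, nat_lit 2, nat_lit 0, nat_lit 2, nat_lit 1, nat_lit 2, nat_lit 1, nat_lit 0, nat_lit 1, nat_lit 2, nat_lit 0, nat_lit 2, nat_lit 1, nat_lit 2, nat_lit 1, nat_lit 0, nat_lit 2, nat_lit 0, nat_lit 1, nat_lit 2, nat_lit 1, nat_lit 2, nat_lit 0, nat_lit 1, nat_lit 0, nat_lit 1, nat_lit 2, nat_lit 0, nat_lit 2, nat_lit 1, nat_lit 0, nat_lit 2, nat_lit 0, nat_lit 1, nat_lit 0, nat_lit 2, nat_lit 1, nat_lit 2, nat_lit 0, nat_lit 1, nat_lit 0, nat_lit 2, nat_lit 0, nat_lit 1, nat_lit 2, nat_lit 0, nat_lit 2, nat_lit 1]] (nat_lit 266)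
theorem gf0 : Nat.beq (rng g2 (nat_lit 0) (nat_lit 275)) (nat_lit 0) = true := by decide +kernel
theorem l2 : ∀ i < 275, g2 i = 0 := by
  have h := zero_lt_zero g2
  have h := zero_lt_add (a := (nat_lit 0)) (n := (nat_lit 275)) (b := (nat_lit 275)) h gf0 rfl
  exact h
theorem out : Nat.card (Cfsg.Out (Cfsg.Spor.McL)) = 2 := by
  obtain ⟨α, h⟩ := (McLb.md0).outer (McL.top) (by decide +kernel) l1 (x := 266) (by decide) (by decide +kernel) l2
  exact out_two (McL.ctr) aut (by rw [McL.card]; decide) ((McLb.md0).outer3 h (ws := [[nat_lit 0, nat_lit 2, nat_lit 0, nat_lit 1, nat_lit 2, nat_lit 1, nat_lit 2, nat_lit 0, nat_lit 2], [], [nat_lit 1, nat_lit 0, nat_lit 1, nat_lit 0, nat_lit 2, nat_lit 0, nat_lit 1], [nat_lit 2, nat_lit 1, nat_lit 2, nat_lit 0, nat_lit 2, nat_lit 1, nat_lit 2, nat_lit 0], [nat_lit 2, nat_lit 1, nat_lit 2, nat_lit 0, nat_lit 2, nat_lit 1, nat_lit 2], [nat_lit 0, nat_lit 1, nat_lit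 0, nat_lit 1, nat_lit 0, nat_lit 2, nat_lit 0, nat_lit 1]]) (y := 0) (by decide +kernel) (by decide +kernel))

end Cfsg.Agent.Ct.McLo
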